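import Groth.Agent.KFlatLib.Scheme.FlatDescent
import Groth.Agent.KFlatLib.Scheme.QCohDerived
import Groth.Agent.DualCover7.Main
import Mathlib.AlgebraicGeometry.Morphisms.Descent

/-!
# A module whose pullback along an fpqc morphism is quasi-coherent is quasi-coherent
-/

set_option autoImplicit false
set_option linter.style.haveILetI false
set_option backward.isDefEq.respectTransparency false
set_option backward.isDefEq.respectTransparency.types false

universe u

open CategoryTheory CategoryTheory.Limits AlgebraicGeometry TopologicalSpace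

attribute [local instance] HasDerivedCategory.standard

noncomputable section

namespace Groth.Agent.FpqcPerf7

open Groth.Agent.KFlatLib

variable {X Y : Scheme.{u}} (f : X ⟶ Y)

/-- The affine case, by the split equalizer `F → f_*f^* F ⇉ f_*f^*f_*f^* F`. -/
theorem isQCoh_of_pullback_affine [Flat f] [Surjective f] [IsAffineHom f] (F : Y.Modules)
    (h : Coh.IsQCoh ((Scheme.Modules.pullback f).obj F)) : Coh.IsQCoh F := by
  let L := Scheme.Modules.pullback f
  let R := Scheme.Modules.pushforward f
  let adj := Scheme.Modules.pullbackPushforwardAdjunction f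
  haveI : L.IsLeftAdjoint := adj.isLeftAdjoint
  haveI : L.Additive := adj.left_adjoint_additive
  haveI := preservesHomology_pullback f
  let P : Y.Modules ⥤ Y.Modules := L ⋙ R
  let η : F ⟶ P.obj F := adj.unit.app F
  let η' : P.obj F ⟶ P.obj (P.obj F) := adj.unit.app (P.obj F)
  let d : P.obj F ⟶ P.obj (P.obj F) := η' - P.map η
  have w : η ≫ d = 0 := by
    simp only [d, η', Preadditive.comp_sub, sub_eq_zero]
    exact adj.unit.naturality η
  let S := ShortComplex.mk η d w
  let s₀ : L.obj (P.obj F) ⟶ L.obj F := adj.counit.app (L.obj F)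
  let s₁ : L.obj (P.obj (P.obj F)) ⟶ L.obj (P.obj F) := adj.counit.app (L.obj (P.obj F))
  have h₀ : L.map η ≫ s₀ = 𝟙 _ := adj.left_triangle_components F
  have h₁ : L.map d ≫ s₁ = 𝟙 _ - s₀ ≫ L.map η := by
    simp only [d, η', Functor.map_sub, Preadditive.sub_comp]
    congr 1
    · exact adj.left_triangle_components (P.obj F)
    · exact adj.counit.naturality (L.map η)
  haveI : Mono (L.map η) := mono_of_mono_fac h₀
  haveI := Functor.PreservesHomology.preservesKernel L η
  haveI : Mono η := Preadditive.mono_of_isZero_kernel η (isZero_of_isZero_pullback f _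
    ((isZero_kernel_of_mono (L.map η)).of_iso (PreservesKernel.iso L η)))
  have hS : (S.map L).Exact := by
    rw [ShortComplex.exact_iff_exact_up_to_refinements]
    intro T x hx
    refine ⟨T, 𝟙 T, inferInstance, x ≫ s₀, ?_⟩
    have hx' : x ≫ L.map d ≫ s₁ = 0 := by rw [← Category.assoc]; exact (congrArg (· ≫ s₁) hx).trans zero_comp
    rw [h₁, Preadditive.comp_sub, sub_eq_zero] at hx'
    replace hx' := (Category.comp_id x).symm.trans hx'
    rw [Category.id_comp, Category.assoc]
    exact hx'
  have hSe : S.Exact := by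
    rw [ShortComplex.exact_iff_isZero_homology]
    exact isZero_of_isZero_pullback f _
      (((ShortComplex.exact_iff_isZero_homology _).1 hS).of_iso (S.mapHomologyIso L).symm)
  haveI : Mono S.f := inferInstanceAs (Mono η)
  have hP : Coh.IsQCoh (P.obj F) := QCoh.isQCoh_pushforward f h
  exact (QCoh.isQCoh_iff_iso (hSe.fIsKernel.conePointUniqueUpToIso (kernelIsKernel d))).2
    (QCoh.isQCoh_kernel hP (QCoh.isQCoh_pushforward f (QCoh.isQCoh_pullback f hP)) d)

/-- Quasi-coherence descends along flat surjective quasi-compact morphisms. -/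
theorem isQCoh_of_pullback [Flat f] [Surjective f] [QuasiCompact f] (F : Y.Modules)
    (h : Coh.IsQCoh ((Scheme.Modules.pullback f).obj F)) : Coh.IsQCoh F := by
  refine DualCover7.isQCoh_of_local fun y => ?_
  obtain ⟨_, ⟨(V : Y.Opens), hV, rfl⟩, hyV, -⟩ :=
    Y.isBasis_affineOpens.exists_subset_of_mem_open (Set.mem_univ y) isOpen_univ
  haveI : CompactSpace V := isCompact_iff_compactSpace.1 hV.isCompact
  haveI : CompactSpace (f ⁻¹ᵁ V) := isCompact_iff_compactSpace.1 (f.isCompact_preimage hV.isCompact)
  obtain ⟨W, p, hsurj, hp, hW⟩ :=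
    (f ⁻¹ᵁ V : Scheme.{u}).exists_hom_isAffine_of_isZariskiLocalAtSource @IsLocalIso
  haveI := hsurj
  haveI := hp
  haveI := hW
  haveI : IsAffine V := hV
  let q := p ≫ (f ∣_ V)
  haveI : Flat p := (IsLocalIso.le_of_isZariskiLocalAtSource @Flat) W _ p hp
  haveI : Flat q := inferInstance
  haveI : Surjective (f ∣_ V) := IsZariskiLocalAtTarget.restrict ‹Surjective f› V
  haveI : Surjective q := inferInstance
  haveI : IsAffineHom q := inferInstance
  refine ⟨_, V.ι, inferInstance, ⟨⟨y, hyV⟩, rfl⟩, isQCoh_of_pullback_affine q _ ?_⟩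
  refine (QCoh.isQCoh_iff_iso ((Scheme.Modules.pullback q).mapIso
    ((Scheme.Modules.restrictFunctorIsoPullback V.ι).app F) ≪≫ (Scheme.Modules.pullbackComp q V.ι).app F ≪≫
      (Scheme.Modules.pullbackCongr (show q ≫ V.ι = (p ≫ (f ⁻¹ᵁ V).ι) ≫ f by simp [q])).app F ≪≫
      ((Scheme.Modules.pullbackComp _ f).app F).symm)).2 ?_
  exact QCoh.isQCoh_pullback _ h

/-- Homology of a flat derived pullback. -/
theorem nonempty_hd_lpull [Flat f] [DCoh.HasLpull f] (E : DCoh.D Y) (i : ℤ) :
    Nonempty (DCoh.HD ((DCoh.Lpull f).obj E) i ≅ (Scheme.Modules.pullback f).obj (DCoh.HD E i)) := by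
  haveI := preservesHomology_pullback f
  exact ⟨(DerivedCategory.homologyFunctor _ i).mapIso (lpullRepIso f E).symm ≪≫
    (DerivedCategory.homologyFunctorFactors _ i).app _ ≪≫
    ((repK E).sc i).mapHomologyIso (Scheme.Modules.pullback f) ≪≫
    (Scheme.Modules.pullback f).mapIso (((DerivedCategory.homologyFunctorFactors _ i).app (repK E)).symm ≪≫
      (DerivedCategory.homologyFunctor _ i).mapIso (repKIso E))⟩

/-- Quasi-coherence of cohomology descends. -/
theorem isQCohD_of_lpull [Flat f] [Surjective f] [QuasiCompact f] [DCoh.HasLpull f] {E : DCoh.D Y}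
    (h : DCoh.IsQCohD ((DCoh.Lpull f).obj E)) : DCoh.IsQCohD E := fun i => by
  obtain ⟨e⟩ := nonempty_hd_lpull f E i
  exact isQCoh_of_pullback f _ ((QCoh.isQCoh_iff_iso e).1 (h i))

end Groth.Agent.FpqcPerf7

end
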