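import Groth.Agent.FpqcPerf7.QCoh
import Groth.Agent.PerfGen7.RpushPerfect
import Groth.Agent.PerfGen7.RelLpull
import Groth.Agent.PerfGen7.AffineOpen
import Groth.Agent.KFlatLib.Scheme.EvalPerfect
import Groth.Agent.S1057

/-!
# Perfectness descends along fpqc morphisms
-/

set_option autoImplicit false
set_option linter.style.haveILetI false
set_option backward.isDefEq.respectTransparency false
set_option backward.isDefEq.respectTransparency.types false

universe u

open CategoryTheory CategoryTheory.Limits AlgebraicGeometry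

attribute [local instance] HasDerivedCategory.standard

noncomputable section

namespace Groth.Agent.FpqcPerf7

open Groth.Agent.KFlatLib

theorem isPerfect_iff_lpull {X' X : Scheme.{u}} (f : X' ⟶ X) [Flat f] [Surjective f] [QuasiCompact f]
    [DCoh.HasLpull f] (E : DCoh.D X) :
    DCoh.IsPerfect E ↔ DCoh.IsPerfect ((DCoh.Lpull f).obj E) := by
  refine ⟨isPerfect_lpull f, fun h => ?_⟩
  have hq : DCoh.IsQCohD E := isQCohD_of_lpull f (PerfGen7.isQCohD_of_isPerfect h)
  have hpc : ∀ m, LocPC m E := fun m => (isPseudoCoherentD_iff _ _).1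
    ((Groth.Agent.S1057.result f E hq m).2
      ((isPseudoCoherentD_iff _ _).2 (((KFlatLib.isPerfect_iff _).1 h).locPC m)))
  refine (KFlatLib.isPerfect_iff _).2 (LocSP.of_local fun y => ?_)
  obtain ⟨_, ⟨(V : X.Opens), hV, rfl⟩, hyV, -⟩ :=
    X.isBasis_affineOpens.exists_subset_of_mem_open (Set.mem_univ y) isOpen_univ
  haveI : CompactSpace (f ⁻¹ᵁ V) := isCompact_iff_compactSpace.1 (f.isCompact_preimage hV.isCompact)
  haveI := hasLpull (f ∣_ V)
  haveI : Surjective (f ∣_ V) := IsZariskiLocalAtTarget.restrict ‹Surjective f› V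
  obtain ⟨e⟩ := PerfGen7.nonempty_lpull_square f (f ∣_ V) V.ι (f ⁻¹ᵁ V).ι (morphismRestrict_ι f V).symm E
  obtain ⟨a, b, hab, hamp⟩ := PerfGen7.exists_flatAmplitude_of_perfect (E := (DCoh.Lpull (f ∣_ V)).obj ((rho V.ι).obj E))
    ((KFlatLib.isPerfect_iff _).2 (LocSP.of_iso e (((KFlatLib.isPerfect_iff _).1 h).restrict' (f ⁻¹ᵁ V).ι)))
  exact ⟨_, V.ι, inferInstance, ⟨⟨y, hyV⟩, rfl⟩,
    locSP_of_flat_pc hab (flatAmplitude_descends (f ∣_ V) hamp) ((hpc (a - 1)).restrict V.ι)⟩

end Groth.Agent.FpqcPerf7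

end
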